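import Groth.Agent.VB30.Tensor
import Groth.Agent.VB30.Setup
import Groth.Agent.KRR40.TwistLES
import Groth.Agent.FDesc60.FlatFree
import Groth.Agent.GRec72.Tensor
import Groth.Agent.Curves2.IdealFrame
import Groth.Agent.Crv77.IdealSeq
import Groth.Agent.CAlg9.Dual.Hartogs
import Groth.Agent.H98K0Nil.Main
import Groth.Prelude.Def_ParBun2
import Groth.Prelude.Def_FGA

/-! Fibres of bundles over a divisor on a curve, and how much a monomorphism can lose there. -/

set_option autoImplicit false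
set_option maxHeartbeats 400000
set_option linter.style.haveILetI false
set_option backward.isDefEq.respectTransparency.types false

noncomputable section

universe u

open CategoryTheory CategoryTheory.Limits AlgebraicGeometry TopologicalSpace Opposite TensorProduct
open Groth.Agent.QC70

namespace Groth.Agent.H98GP

variable {X : Scheme.{u}}

theorem unitorR_naturality {E F : X.Modules} (φ : E ⟶ F) :
    KoszTw.tensorMap φ (𝟙 (Coh.structureModule X)) ≫ (SecTwist.unitorR F).hom =
      (SecTwist.unitorR E).hom ≫ φ :=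
  GRec72.hom_ext_tmul fun U m r => by
    change (SecTwist.unitorR F).hom.app U ((KoszTw.tensorMap φ (𝟙 _)).app U (SecTwist.tmul E _ U m r)) =
      φ.app U ((SecTwist.unitorR E).hom.app U (SecTwist.tmul E _ U m r))
    rw [KoszTw.tensorMap_tmul]
    refine (SecTwist.unitorR_tmul F U (φ.app U m) r).trans ?_
    refine Eq.trans ?_ (congrArg (φ.app U) (SecTwist.unitorR_tmul E U m r)).symm
    exact (Scheme.Modules.Hom.app_smul φ r m).symm

theorem tensorMap_comp' {M M' M'' N : X.Modules} (φ : M ⟶ M') (ψ : M' ⟶ M'') :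
    KoszTw.tensorMap φ (𝟙 N) ≫ KoszTw.tensorMap ψ (𝟙 N) = KoszTw.tensorMap (φ ≫ ψ) (𝟙 N) := by
  rw [← KoszTw.tensorMap_comp, Category.id_comp]

theorem tensorMap_exchange {M M' N N' : X.Modules} (φ : M ⟶ M') (ψ : N ⟶ N') :
    KoszTw.tensorMap φ (𝟙 N) ≫ KoszTw.tensorMap (𝟙 M') ψ =
      KoszTw.tensorMap (𝟙 M) ψ ≫ KoszTw.tensorMap φ (𝟙 N') := by
  rw [← KoszTw.tensorMap_comp, ← KoszTw.tensorMap_comp, Category.id_comp, Category.id_comp,
    Category.comp_id, Category.comp_id]

theorem flat_stalk_of_lf {E : X.Modules} (hE : FlatMod.IsFinLocFree E) (x : X) :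
    Module.Flat (X.presheaf.stalk x) (E.presheaf.stalk x) :=
  have := FDesc60.free_stalk_of_isFinLocFree E hE x
  inferInstance

variable (I : X.IdealSheafData)

theorem resSeq_zero (E : X.Modules) :
    KoszTw.tensorMap (𝟙 E) (ClSub.idealModι I) ≫ KoszTw.tensorMap (𝟙 E) (ClSub.toSubscheme I) =
      (DCoh.tensorBi.obj E).map (0 : ClSub.idealMod I ⟶ ClSub.quotMod I) := by
  rw [← KoszTw.tensorMap_comp, Category.id_comp, ← KoszTw.tensorBi_obj_map]
  exact congrArg _ (kernel.condition _)

/-- `E ⊗ I → E ⊗ O → E ⊗ O_D` is short exact for a bundle `E`. -/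
theorem exists_resSeq {E : X.Modules} (hE : FlatMod.IsFinLocFree E) :
    ∃ S : ShortComplex X.Modules, S.ShortExact ∧ S.X₁ = CohB1.tensorMod E (ClSub.idealMod I) ∧
      S.X₂ = CohB1.tensorMod E (Coh.structureModule X) ∧ S.X₃ = ParSh.resD I E :=
  ⟨_, KRR40.shortExact_tensor (flat_stalk_of_lf hE) (Crv77.idealSeq_shortExact I), rfl, rfl, rfl⟩

theorem epi_toRes {E : X.Modules} (hE : FlatMod.IsFinLocFree E) :
    Epi (KoszTw.tensorMap (𝟙 E) (ClSub.toSubscheme I)) := by
  rw [← KoszTw.tensorBi_obj_map]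
  exact (KRR40.shortExact_tensor (flat_stalk_of_lf hE) (Crv77.idealSeq_shortExact I)).epi_g

/-- A short exact sequence with bundle quotient stays short exact after tensoring. -/
theorem exists_tensor_right {S : ShortComplex X.Modules} (hS : S.ShortExact)
    (h₃ : FlatMod.IsFinLocFree S.X₃) (N : X.Modules) :
    ∃ w, (ShortComplex.mk (KoszTw.tensorMap S.f (𝟙 N)) (KoszTw.tensorMap S.g (𝟙 N)) w).ShortExact := by
  have w : KoszTw.tensorMap S.f (𝟙 N) ≫ KoszTw.tensorMap S.g (𝟙 N) = 0 := by
    haveI : ((DCoh.tensorBi (X := X)).flip.obj N).Additive :=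
      Mod48.additive_tensorBi_flip_obj (O := X.sheaf) N
    rw [tensorMap_comp', S.zero, ← KoszTw.tensorBi_map_app]
    exact Functor.map_zero ((DCoh.tensorBi (X := X)).flip.obj N) _ _
  refine ⟨w, KRR40.shortExact_of_stalks _ fun x => ?_⟩
  have key : ∀ {M M' : X.Modules} (φ : M ⟶ M')
      (z : (DCK91.SP x).obj M ⊗[X.presheaf.stalk x] (DCK91.SP x).obj N),
      (DCK91.SP x).map (KoszTw.tensorMap φ (𝟙 N)) (DCK91.tensorStalk x M N z) =
        DCK91.tensorStalk x M' N
          (LinearMap.rTensor ((DCK91.SP x).obj N) ((DCK91.SP x).map φ).hom z) := fun φ z => by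
    rw [← KoszTw.tensorBi_map_app]
    exact (ConcreteCategory.congr_hom (DCK91.tensorStalk_left x φ N) z).symm
  have hy := hS.map_of_exact (DCK91.SP x)
  let f := ((DCK91.SP x).map S.f).hom
  let g := ((DCK91.SP x).map S.g).hom
  have hinj : Function.Injective f := hy.moduleCat_injective_f
  have hsur : Function.Surjective g := hy.moduleCat_surjective_g
  have hex : Function.Exact f g :=
    (ShortComplex.ShortExact.moduleCat_exact_iff_function_exact _).1 hy.exact
  haveI : Module.Free (X.presheaf.stalk x) ((DCK91.SP x).obj S.X₃) :=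
    FDesc60.free_stalk_of_isFinLocFree S.X₃ h₃ x
  obtain ⟨s, hs⟩ := Module.projective_lifting_property g LinearMap.id hsur
  have hT := hex.split_tfae hinj hsur
  obtain ⟨r, hr⟩ : ∃ r, r ∘ₗ f = LinearMap.id := (hT.out 0 1 rfl rfl).1 ⟨s, hs⟩
  let Q := (DCK91.SP x).obj N
  have hb : ∀ M : X.Modules, Function.Bijective (DCK91.tensorStalk x M N) := fun M =>
    (ConcreteCategory.isIso_iff_bijective _).1 inferInstance
  refine { exact := ?_, mono_f := ?_, epi_g := ?_ }
  · refine (ShortComplex.ShortExact.moduleCat_exact_iff_function_exact _).2 fun v => ?_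
    obtain ⟨z, rfl⟩ := (hb S.X₂).2 v
    change (DCK91.SP x).map (KoszTw.tensorMap S.g (𝟙 N)) _ = 0 ↔
      _ ∈ Set.range ((DCK91.SP x).map (KoszTw.tensorMap S.f (𝟙 N)))
    rw [key]
    constructor
    · intro h
      obtain ⟨w, rfl⟩ := (rTensor_exact Q hex hsur z).1 ((hb S.X₃).1 (h.trans (map_zero _).symm))
      exact ⟨_, key S.f w⟩
    · rintro ⟨w, hw⟩
      obtain ⟨w, rfl⟩ := (hb S.X₁).2 w
      rw [key] at hw
      rw [← (hb S.X₂).1 hw]
      exact (congrArg _ ((rTensor_exact Q hex hsur).apply_apply_eq_zero w)).trans (map_zero _)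
  · refine (ModuleCat.mono_iff_injective _).2 fun v v' h => ?_
    obtain ⟨w, rfl⟩ := (hb S.X₁).2 v
    obtain ⟨w', rfl⟩ := (hb S.X₁).2 v'
    change (DCK91.SP x).map (KoszTw.tensorMap S.f (𝟙 N)) _ =
      (DCK91.SP x).map (KoszTw.tensorMap S.f (𝟙 N)) _ at h
    rw [key, key] at h
    refine congrArg _ ?_
    have h1 := congrArg (LinearMap.rTensor Q r) ((hb S.X₂).1 h)
    rwa [← LinearMap.comp_apply, ← LinearMap.comp_apply, ← LinearMap.rTensor_comp, hr,
      LinearMap.rTensor_id] at h1
  · refine (ModuleCat.epi_iff_surjective _).2 fun v => ?_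
    obtain ⟨w, rfl⟩ := (hb S.X₃).2 v
    obtain ⟨z, rfl⟩ := LinearMap.rTensor_surjective Q hsur w
    exact ⟨_, key S.g z⟩

section Curve

variable {k : Type u} [Field k] [X.Over (Spec (CommRingCat.of k))] [IsIntegral X]

open VB30

variable {I} (h : VB30.Cur k X) (hD : FGA.IsEffCartier I)

include h in
theorem isCoh_resD {E : X.Modules} (hE : Coh.IsCoh E) : Coh.IsCoh (ParSh.resD I E) :=
  Crv77.isCoh_tensorMod hE (Crv77.isCoh_quotMod I)

include h in
theorem finite_fibD {E : X.Modules} (hE : Coh.IsCoh E) : Module.Finite k (ParSh.fibD X I E) :=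
  h.curveCoh.finite _ (isCoh_resD h hE) 0

include h hD in
theorem rk_dg_resD {E : X.Modules} (hE : FlatMod.IsFinLocFree E) :
    rk (ParSh.resD I E) = 0 ∧ dg k (ParSh.resD I E) = -(rk E : ℤ) * dg k (ClSub.idealMod I) := by
  have hI : PicF.IsInvertible (ClSub.idealMod I) := (Curves2.isInvertible_idealMod_iff I).2 hD
  obtain ⟨S, hS, e₁, e₂, e₃⟩ := exists_resSeq I hE
  obtain ⟨hl, hr, hd⟩ := h.tensor_invertible hE hI
  have hc := isCoh_of_isFinLocFree hE
  have hc1 : Coh.IsCoh S.X₁ := e₁ ▸ isCoh_of_isFinLocFree hl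
  have hc2 : Coh.IsCoh S.X₂ :=
    e₂ ▸ Crv77.isCoh_tensorMod hc Crv77.isCoh_structureModule
  have a := h.rk_add hS hc2
  have b := h.dg_add hS hc1 hc2
  rw [e₁, e₂, e₃, rk_congr (SecTwist.unitorR E), hr] at a
  rw [e₁, e₂, e₃, dg_congr (SecTwist.unitorR E), hd] at b
  refine ⟨by omega, ?_⟩
  rw [neg_mul]
  omega

include h hD in
theorem finrank_fibD {E : X.Modules} (hE : FlatMod.IsFinLocFree E) :
    (Module.finrank k (ParSh.fibD X I E) : ℤ) = dg k (ParSh.resD I E) :=
  (h.dg_torsion (isCoh_resD h (isCoh_of_isFinLocFree hE)) (rk_dg_resD h hD hE).1).1.symm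

include h hD in
/-- The kernel of a generic isomorphism on the fibres over `D` is bounded by the degree it gains. -/
theorem finrank_ker_le {E F : X.Modules} (hE : FlatMod.IsFinLocFree E) (hF : FlatMod.IsFinLocFree F)
    (φ : E ⟶ F) [Mono φ] (hr : rk E = rk F) :
    (Module.finrank k (LinearMap.ker (ParSh.fibDMap k X I φ)) : ℤ) ≤ dg k F - dg k E := by
  obtain ⟨hE0, hEd⟩ := rk_dg_resD h hD hE
  obtain ⟨hF0, hFd⟩ := rk_dg_resD h hD hF
  have hEc := isCoh_of_isFinLocFree hE
  have hFc := isCoh_of_isFinLocFree hF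
  have hEDc := isCoh_resD (I := I) h hEc
  have hFDc := isCoh_resD (I := I) h hFc
  let φD := ParSh.resDMap I φ
  obtain ⟨w, hK⟩ := Cur.shortExact_kerImage φD
  have hKc := h.isCoh_kernel φD hEDc hFDc
  have hC := h.isCoh_cokernel φD hEDc hFDc
  have hImc : Coh.IsCoh (Abelian.image φD) := h.isCoh_kernel _ hFDc hC
  have hI' : (ShortComplex.mk (Abelian.image.ι φD) (cokernel.π φD) (kernel.condition _)).ShortExact :=
    { exact := ShortComplex.exact_of_f_is_kernel _ (kernelIsKernel _) }
  have a1 := h.rk_add hK hEDc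
  have b1 := h.dg_add hK hKc hEDc
  have a2 := h.rk_add hI' hFDc
  have b2 := h.dg_add hI' hImc hFDc
  dsimp only at a1 b1 a2 b2
  let φO := KoszTw.tensorMap φ (𝟙 (Coh.structureModule X))
  have hn : φO = (SecTwist.unitorR E).hom ≫ φ ≫ (SecTwist.unitorR F).inv := by
    rw [← Category.assoc, ← unitorR_naturality, Category.assoc, Iso.hom_inv_id, Category.comp_id]
  haveI : Mono φO := by rw [hn]; infer_instance
  have hEOc := Crv77.isCoh_tensorMod hEc (Crv77.isCoh_structureModule (X := X))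
  have hFOc := Crv77.isCoh_tensorMod hFc (Crv77.isCoh_structureModule (X := X))
  have hQ := h.isCoh_cokernel φO hEOc hFOc
  have hO : (ShortComplex.mk φO (cokernel.π φO) (cokernel.condition _)).ShortExact :=
    { exact := ShortComplex.exact_of_g_is_cokernel _ (cokernelIsCokernel _) }
  have a3 := h.rk_add hO hFOc
  have b3 := h.dg_add hO hEOc hFOc
  dsimp only at a3 b3
  rw [rk_congr (SecTwist.unitorR E), rk_congr (SecTwist.unitorR F)] at a3
  rw [dg_congr (SecTwist.unitorR E), dg_congr (SecTwist.unitorR F)] at b3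
  let qE := KoszTw.tensorMap (𝟙 E) (ClSub.toSubscheme I)
  let qF := KoszTw.tensorMap (𝟙 F) (ClSub.toSubscheme I)
  haveI : Epi qF := epi_toRes I hF
  let ψ : cokernel φO ⟶ cokernel φD := cokernel.map φO φD qE qF (tensorMap_exchange φ _)
  haveI : Epi ψ := by
    haveI : Epi (cokernel.π φO ≫ ψ) := by
      rw [cokernel.π_desc]
      infer_instance
    exact epi_of_epi (cokernel.π φO) ψ
  have hψ : (ShortComplex.mk (kernel.ι ψ) ψ (kernel.condition ψ)).ShortExact :=
    { exact := ShortComplex.exact_of_f_is_kernel _ (kernelIsKernel _) }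
  have hψc := h.isCoh_kernel ψ hQ hC
  have a4 := h.rk_add hψ hQ
  have b4 := h.dg_add hψ hψc hQ
  dsimp only at a4 b4
  obtain ⟨hK', -⟩ := h.dg_torsion hKc (by omega)
  obtain ⟨hψ', -⟩ := h.dg_torsion hψc (by omega)
  have := h.curveCoh.finite _ hKc 0
  have hle : Module.finrank k (LinearMap.ker (ParSh.fibDMap k X I φ)) ≤
      Module.finrank k (Coh.HH X (kernel φD) 0) := by
    have hex := Crv77.exact_f_g (A := k) hK 0
    have hinj := Crv77.injective_f_zero (A := k) hI'
    have hsub : LinearMap.ker (ParSh.fibDMap k X I φ) ≤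
        LinearMap.range (Crv77.hmap k (kernel.ι φD) 0) := fun v hv => by
      refine (hex v).1 (hinj ?_)
      rw [map_zero, Crv77.hmap_comp, Abelian.image.fac]
      exact hv
    exact (Submodule.finrank_mono hsub).trans (LinearMap.finrank_range_le _)
  rw [hr] at hEd
  omega

end Curve

end Groth.Agent.H98GP

end
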