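import Groth.Agent.H98GP.Basic
import Groth.Agent.VB30.Slope

/-! Parabolic degrees of generalised parabolic bundles. -/

set_option autoImplicit false
set_option maxHeartbeats 400000
set_option linter.style.haveILetI false
set_option backward.isDefEq.respectTransparency.types false

noncomputable section

universe u

open CategoryTheory CategoryTheory.Limits AlgebraicGeometry TopologicalSpace Opposite
open Groth.Agent.QC70 Groth.Agent.VB30

namespace Groth.Agent.H98GP

variable {k : Type u} [Field k] {X : Scheme.{u}} [X.Over (Spec (CommRingCat.of k))] [IsIntegral X]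
  {I : X.IdealSheafData} (h : VB30.Cur k X) (hD : FGA.IsEffCartier I)

omit [IsIntegral X] in
theorem fibDMap_comp {A B C : X.Modules} (φ : A ⟶ B) (ψ : B ⟶ C) (v : ParSh.fibD X I A) :
    ParSh.fibDMap k X I ψ (ParSh.fibDMap k X I φ v) = ParSh.fibDMap k X I (φ ≫ ψ) v := by
  refine (Crv77.hmap_comp k (ParSh.resDMap I φ) (ParSh.resDMap I ψ) 0 v).trans ?_
  exact congrArg (fun χ => Crv77.hmap k χ 0 v) (tensorMap_comp' φ ψ)

omit [IsIntegral X] in
theorem fibDMap_comp' {A B C : X.Modules} (φ : A ⟶ B) (ψ : B ⟶ C) :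
    (ParSh.fibDMap k X I ψ).comp (ParSh.fibDMap k X I φ) = ParSh.fibDMap k X I (φ ≫ ψ) :=
  LinearMap.ext fun v => fibDMap_comp φ ψ v

omit [IsIntegral X] in
theorem coinduced_le_induced {E J F : X.Modules} {p : E ⟶ J} {j : J ⟶ F} {f : E ⟶ F} (hpj : p ≫ j = f)
    {F₁ : Submodule k (ParSh.fibD X I E)} {F₁' : Submodule k (ParSh.fibD X I F)}
    (hf : ParSh.IsGPHom k X I F₁ F₁' f) :
    ParSh.gpCoinduced k X I p F₁ ≤ ParSh.gpInduced k X I j F₁' := by
  rw [ParSh.gpCoinduced, ParSh.gpInduced, ← Submodule.map_le_iff_le_comap, ← Submodule.map_comp,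
    fibDMap_comp', hpj]
  exact hf

omit [IsIntegral X] in
theorem induced_isGPHom {G G' F : X.Modules} {a : G ⟶ G'} {j' : G' ⟶ F} {j : G ⟶ F} (haj : a ≫ j' = j)
    (F₁' : Submodule k (ParSh.fibD X I F)) :
    ParSh.IsGPHom k X I (ParSh.gpInduced k X I j F₁') (ParSh.gpInduced k X I j' F₁') a := by
  rw [ParSh.IsGPHom, ParSh.gpInduced, ParSh.gpInduced, Submodule.map_le_iff_le_comap,
    ← Submodule.comap_comp, fibDMap_comp', haj]

omit [IsIntegral X] in
theorem bijective_fibDMap {E F : X.Modules} (f : E ⟶ F) [IsIso f] :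
    Function.Bijective (ParSh.fibDMap k X I f) := by
  have key : ∀ {A : X.Modules} (g : A ⟶ A), g = 𝟙 A →
      ∀ v, ParSh.fibDMap k X I g v = v := fun g hg v => by
    subst hg
    change Crv77.hmap k (KoszTw.tensorMap (𝟙 _) (𝟙 _)) 0 v = v
    rw [KoszTw.tensorMap_id]
    exact Crv77.hmap_id k _ 0 v
  refine ⟨fun a b hab => ?_, fun v => ⟨ParSh.fibDMap k X I (inv f) v, ?_⟩⟩
  · have := congrArg (ParSh.fibDMap k X I (inv f)) hab
    rwa [fibDMap_comp, fibDMap_comp, key _ (IsIso.hom_inv_id f), key _ (IsIso.hom_inv_id f)] at this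
  · rw [fibDMap_comp, key _ (IsIso.inv_hom_id f)]

theorem gpDeg_eq {E : X.Modules} {n : ℕ} (hE : FlatMod.IsFinLocFreeOfRank n E) (α : ℝ)
    (F₁ : Submodule k (ParSh.fibD X I E)) :
    ParSh.gpDeg k X α E F₁ n = (dg k E : ℝ) + α * (Module.finrank k F₁ : ℝ) := by
  rw [ParSh.gpDeg, ParSh.gpWt, deg_eq_dg hE]

include h hD in
/-- A generic isomorphism increases the structure by at most the degree it gains. -/
theorem finrank_le_add {E F : X.Modules} (hE : FlatMod.IsFinLocFree E) (hF : FlatMod.IsFinLocFree F)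
    (f : E ⟶ F) [Mono f] (hr : rk E = rk F) {F₁ : Submodule k (ParSh.fibD X I E)}
    {F₁' : Submodule k (ParSh.fibD X I F)} (hf : ParSh.IsGPHom k X I F₁ F₁' f) :
    (Module.finrank k F₁ : ℤ) ≤ Module.finrank k F₁' + (dg k F - dg k E) := by
  have := finite_fibD (I := I) h (isCoh_of_isFinLocFree hE)
  have := finite_fibD (I := I) h (isCoh_of_isFinLocFree hF)
  let φ := ParSh.fibDMap k X I f
  let g : F₁ →ₗ[k] ParSh.fibD X I F := φ.domRestrict F₁
  have h1 := g.finrank_range_add_finrank_ker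
  have h2 : Module.finrank k (LinearMap.range g) ≤ Module.finrank k F₁' :=
    Submodule.finrank_mono (by
      rintro _ ⟨v, rfl⟩
      exact hf ⟨v.1, v.2, rfl⟩)
  have h3 : Module.finrank k (LinearMap.ker g) ≤ Module.finrank k (LinearMap.ker φ) :=
    LinearMap.finrank_le_finrank_of_injective
      (f := (F₁.subtype.comp (LinearMap.ker g).subtype).codRestrict (LinearMap.ker φ) fun v => v.2)
      fun a b hab => Subtype.ext (Subtype.ext (congrArg Subtype.val hab :))
  have h4 : (Module.finrank k (LinearMap.ker φ) : ℤ) ≤ dg k F - dg k E :=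
    finrank_ker_le h hD hE hF f hr
  omega

include h hD in
theorem gp_le {E F : X.Modules} {α : ℝ} (hα0 : 0 ≤ α) (hα1 : α ≤ 1)
    (hE : FlatMod.IsFinLocFree E) (hF : FlatMod.IsFinLocFree F)
    (f : E ⟶ F) [Mono f] (hr : rk E = rk F) {F₁ : Submodule k (ParSh.fibD X I E)}
    {F₁' : Submodule k (ParSh.fibD X I F)} (hf : ParSh.IsGPHom k X I F₁ F₁' f) :
    (dg k E : ℝ) + α * Module.finrank k F₁ ≤ (dg k F : ℝ) + α * Module.finrank k F₁' ∧
      (α < 1 → (dg k E : ℝ) + α * Module.finrank k F₁ = (dg k F : ℝ) + α * Module.finrank k F₁' →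
        IsIso f) := by
  have h1 : (Module.finrank k F₁ : ℝ) ≤ (Module.finrank k F₁' : ℝ) + ((dg k F : ℝ) - dg k E) := by
    exact_mod_cast finrank_le_add h hD hE hF f hr hf
  obtain ⟨h2, h3⟩ := h.dg_le_of_mono f (isCoh_of_isFinLocFree hE) (isCoh_of_isFinLocFree hF) hr
  have h2' : (dg k E : ℝ) ≤ dg k F := by exact_mod_cast h2
  refine ⟨by nlinarith, fun hlt he => h3 ?_⟩
  have : (dg k E : ℝ) = dg k F := by nlinarith
  exact_mod_cast this

omit [IsIntegral X] in
theorem finrank_map_of_injective {V W : Type u} [AddCommGroup V] [Module k V] [AddCommGroup W]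
    [Module k W] (φ : V →ₗ[k] W) (hφ : Function.Injective φ) (p : Submodule k V) :
    Module.finrank k (p.map φ) = Module.finrank k p :=
  (Submodule.equivMapOfInjective φ hφ p).finrank_eq.symm

include h hD in
/-- The degree of a structure is at most that of a sub-bundle plus that of the quotient. -/
theorem finrank_le_of_shortExact {S : ShortComplex X.Modules} (hS : S.ShortExact)
    (h₁ : FlatMod.IsFinLocFree S.X₁) (h₂ : FlatMod.IsFinLocFree S.X₂)
    (h₃ : FlatMod.IsFinLocFree S.X₃) (F₁ : Submodule k (ParSh.fibD X I S.X₂)) :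
    Module.finrank k F₁ ≤ Module.finrank k (ParSh.gpCoinduced k X I S.g F₁) +
      Module.finrank k (ParSh.gpInduced k X I S.f F₁) := by
  have := finite_fibD (I := I) h (isCoh_of_isFinLocFree h₁)
  have := finite_fibD (I := I) h (isCoh_of_isFinLocFree h₂)
  have := finite_fibD (I := I) h (isCoh_of_isFinLocFree h₃)
  obtain ⟨w, hT⟩ := exists_tensor_right hS h₃ (ClSub.quotMod I)
  have hex := Crv77.exact_f_g (A := k) hT 0
  let φ := ParSh.fibDMap k X I S.g
  let g : F₁ →ₗ[k] ParSh.fibD X I S.X₃ := φ.domRestrict F₁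
  have h1 := g.finrank_range_add_finrank_ker
  have h2 : Module.finrank k (LinearMap.range g) ≤
      Module.finrank k (ParSh.gpCoinduced k X I S.g F₁) :=
    Submodule.finrank_mono (by
      rintro _ ⟨v, rfl⟩
      exact ⟨v.1, v.2, rfl⟩)
  have h3 : Module.finrank k (LinearMap.ker g) ≤
      Module.finrank k ((ParSh.gpInduced k X I S.f F₁).map (ParSh.fibDMap k X I S.f)) :=
    LinearMap.finrank_le_finrank_of_injective
      (f := (F₁.subtype.comp (LinearMap.ker g).subtype).codRestrict _ fun v => by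
        obtain ⟨e, he⟩ := (hex v.1.1).1 v.2
        refine ⟨e, ?_, he⟩
        change ParSh.fibDMap k X I S.f e ∈ F₁
        exact (show ParSh.fibDMap k X I S.f e = v.1.1 from he) ▸ v.1.2)
      fun a b hab => Subtype.ext (Subtype.ext (congrArg Subtype.val hab :))
  have h4 : Module.finrank k ((ParSh.gpInduced k X I S.f F₁).map (ParSh.fibDMap k X I S.f)) ≤
      Module.finrank k (ParSh.gpInduced k X I S.f F₁) :=
    Submodule.finrank_map_le _ _
  omega

include h in
/-- Kernel and image of a map of bundles, with their short exact sequence. -/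
theorem exists_ker_image {E F : X.Modules} (f : E ⟶ F) (hE : FlatMod.IsFinLocFree E)
    (hF : FlatMod.IsFinLocFree F) :
    ∃ (K J : X.Modules) (i : K ⟶ E) (p : E ⟶ J) (j : J ⟶ F) (w : i ≫ p = 0),
      Mono i ∧ Epi p ∧ Mono j ∧ p ≫ j = f ∧ (ShortComplex.mk i p w).ShortExact ∧
      FlatMod.IsFinLocFree K ∧ FlatMod.IsFinLocFree J ∧ rk E = rk K + rk J ∧
      dg k E = dg k K + dg k J ∧ (rk K = 0 → Mono f) ∧ (rk J = 0 → f = 0) := by
  have hEc := isCoh_of_isFinLocFree hE
  have hFc := isCoh_of_isFinLocFree hF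
  have hK := h.isCoh_kernel f hEc hFc
  have hI : Coh.IsCoh (Abelian.image f) := h.isCoh_kernel _ hFc (h.isCoh_cokernel f hEc hFc)
  have hKl := h.isFinLocFree_of_mono (kernel.ι f) hK hE
  have hIl := h.isFinLocFree_of_mono (Abelian.image.ι f) hI hF
  obtain ⟨w, hS⟩ := Cur.shortExact_kerImage f
  have r1 : rk E = rk (kernel f) + rk (Abelian.image f) :=
    h.rk_add (S := ShortComplex.mk (kernel.ι f) (Abelian.factorThruImage f) w) hS hEc
  have r2 : dg k E = dg k (kernel f) + dg k (Abelian.image f) :=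
    h.dg_add (S := ShortComplex.mk (kernel.ι f) (Abelian.factorThruImage f) w) hS hK hEc
  have r3 : rk (kernel f) = 0 → Mono f := fun h0 =>
    Preadditive.mono_of_kernel_zero ((h.isZero_of_rk_eq_zero hKl h0).eq_of_src (kernel.ι f) 0)
  have r4 : rk (Abelian.image f) = 0 → f = 0 := fun h0 => by
    rw [← Abelian.image.fac f, (h.isZero_of_rk_eq_zero hIl h0).eq_of_tgt (Abelian.factorThruImage f) 0]
    exact zero_comp
  exact ⟨kernel f, Abelian.image f, kernel.ι f, Abelian.factorThruImage f, Abelian.image.ι f, w,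
    inferInstance, inferInstance, inferInstance, Abelian.image.fac f, hS, hKl, hIl, r1, r2, r3, r4⟩

include h hD in
/-- A nonzero parabolic map of semistable structures of equal slope factors through a sub-bundle of the
target of the same slope. -/
theorem image_facts {E F : X.Modules} {n m : ℕ} (hn : 0 < n) (hm : 0 < m) {α : ℝ} (hα0 : 0 ≤ α)
    (hE : FlatMod.IsFinLocFreeOfRank n E) (hF : FlatMod.IsFinLocFreeOfRank m F)
    {F₁ : Submodule k (ParSh.fibD X I E)} {F₁' : Submodule k (ParSh.fibD X I F)}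
    (hEss : ParSh.IsGPSemistable k X I α F₁ n) (hFss : ParSh.IsGPSemistable k X I α F₁' m)
    (hμ : ParSh.gpDeg k X α E F₁ n * (m : ℝ) = ParSh.gpDeg k X α F F₁' m * (n : ℝ))
    (f : E ⟶ F) (hf : ParSh.IsGPHom k X I F₁ F₁' f) (hf0 : f ≠ 0) :
    ∃ (J : X.Modules) (p : E ⟶ J) (j : J ⟶ F), Mono j ∧ Epi p ∧ p ≫ j = f ∧
      FlatMod.IsFinLocFree J ∧ 0 < rk J ∧ rk J ≤ m ∧ rk J ≤ n ∧
      ((dg k J : ℝ) + α * Module.finrank k (ParSh.gpInduced k X I j F₁')) * m =
        ParSh.gpDeg k X α F F₁' m * (rk J : ℝ) ∧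
      (rk J = n → Mono f) ∧
      (ParSh.IsGPStable k X I α F₁ n → rk J < n → False) := by
  have hEl := isFinLocFree_of_rank hE
  have hFl := isFinLocFree_of_rank hF
  have hrE := rk_eq_of_isFinLocFreeOfRank hE
  have hrF := rk_eq_of_isFinLocFreeOfRank hF
  have := (isCoh_of_isFinLocFree hFl).2
  obtain ⟨K, J, i, p, j, hw, hi, hp, hj, hpj, hS, hK, hJ, hr, hd, hm0, hz⟩ :=
    exists_ker_image h f hEl hFl
  have hJ0 : 0 < rk J := Nat.pos_of_ne_zero fun h0 => hf0 (hz h0)
  have hFss' := hFss J (rk J) j hj hJ0 (isFinLocFreeOfRank_rk hJ)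
  rw [gpDeg_eq (isFinLocFreeOfRank_rk hJ), gpDeg_eq hF] at hFss'
  rw [gpDeg_eq hE, gpDeg_eq hF] at hμ
  have hf1 : Module.finrank k (ParSh.gpCoinduced k X I p F₁) ≤
      Module.finrank k (ParSh.gpInduced k X I j F₁') :=
    have := finite_fibD (I := I) h (isCoh_of_isFinLocFree hJ)
    Submodule.finrank_mono (coinduced_le_induced hpj hf)
  have hd' : (dg k E : ℝ) = dg k K + dg k J := by exact_mod_cast hd
  have hr' : (n : ℝ) = rk K + rk J := by exact_mod_cast hrE.symm.trans hr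
  have hf1' : (Module.finrank k (ParSh.gpCoinduced k X I p F₁) : ℝ) ≤
      Module.finrank k (ParSh.gpInduced k X I j F₁') := by exact_mod_cast hf1
  have hn' : (0 : ℝ) < n := by exact_mod_cast hn
  have hm' : (0 : ℝ) < m := by exact_mod_cast hm
  have hJm : rk J ≤ m := hrF ▸ rk_le_of_mono j
  set a := (dg k J : ℝ) + α * Module.finrank k (ParSh.gpInduced k X I j F₁') with ha
  set e := (dg k E : ℝ) + α * Module.finrank k F₁ with he
  set b := (dg k F : ℝ) + α * Module.finrank k F₁' with hb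
  by_cases hK0 : rk K = 0
  · haveI := hm0 hK0
    have hJn : rk J = n := by omega
    haveI : Mono p := mono_of_mono_fac hpj
    have h1 : (dg k E : ℝ) = dg k J := by rw [hd', h.dg_of_rk_zero hK hK0]; simp
    have h2 : (Module.finrank k F₁ : ℝ) ≤ Module.finrank k (ParSh.gpInduced k X I j F₁') := by
      haveI : IsIso p := isIso_of_mono_of_epi p
      refine le_trans (le_of_eq ?_) hf1'
      exact congrArg Nat.cast (finrank_map_of_injective (ParSh.fibDMap k X I p)
        (bijective_fibDMap (k := k) (I := I) p).1 F₁).symm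
    have h3 : e ≤ a := by rw [he, ha, h1]; nlinarith
    rw [hJn] at hFss'
    refine ⟨J, p, j, hj, hp, hpj, hJ, hJ0, hJm, by omega, ?_, fun _ => inferInstance,
      fun _ hlt => absurd hlt (by omega)⟩
    rw [gpDeg_eq hF, hJn, ← hb]
    refine le_antisymm hFss' ?_
    rw [← hμ]
    exact mul_le_mul_of_nonneg_right h3 hm'.le
  have hle : Module.finrank k F₁ ≤ Module.finrank k (ParSh.gpCoinduced k X I p F₁) +
      Module.finrank k (ParSh.gpInduced k X I i F₁) :=
    finrank_le_of_shortExact (S := ShortComplex.mk i p hw) h hD hS hK hEl hJ F₁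
  have hle' : (Module.finrank k F₁ : ℝ) ≤ Module.finrank k (ParSh.gpCoinduced k X I p F₁) +
      Module.finrank k (ParSh.gpInduced k X I i F₁) := by exact_mod_cast hle
  have hEss' := hEss K (rk K) i hi (Nat.pos_of_ne_zero hK0) (isFinLocFreeOfRank_rk hK)
  rw [gpDeg_eq (isFinLocFreeOfRank_rk hK), gpDeg_eq hE, ← he] at hEss'
  set c := (dg k K : ℝ) + α * Module.finrank k (ParSh.gpInduced k X I i F₁) with hc
  have h3 : e ≤ a + c := by rw [he, ha, hc, hd']; nlinarith
  have h4 : e * (rk J : ℝ) ≤ a * n := by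
    have h5 : e * (n : ℝ) ≤ (a + c) * n := mul_le_mul_of_nonneg_right h3 hn'.le
    rw [hr'] at h5 hEss' ⊢
    linarith
  have h6 : a * (m : ℝ) = b * rk J := by
    refine le_antisymm hFss' ?_
    have h7 : b * (rk J : ℝ) * n ≤ a * m * n := by
      have : e * (rk J : ℝ) * m ≤ a * n * m := mul_le_mul_of_nonneg_right h4 hm'.le
      calc b * (rk J : ℝ) * n = b * n * rk J := by ring
        _ = e * m * rk J := by rw [hμ]
        _ = e * rk J * m := by ring
        _ ≤ a * n * m := this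
        _ = a * m * n := by ring
    exact le_of_mul_le_mul_right h7 hn'
  refine ⟨J, p, j, hj, hp, hpj, hJ, hJ0, hJm, by omega, by rw [gpDeg_eq hF, ← hb]; exact h6,
    fun hJn => absurd hJn (by omega), fun hst hlt => ?_⟩
  have hst' := hst K (rk K) i hi (Nat.pos_of_ne_zero hK0) (by omega) (isFinLocFreeOfRank_rk hK)
  rw [gpDeg_eq (isFinLocFreeOfRank_rk hK), gpDeg_eq hE, ← he, ← hc] at hst'
  have h5 : e * (n : ℝ) ≤ (a + c) * n := mul_le_mul_of_nonneg_right h3 hn'.le
  have h8 : e * (rk J : ℝ) < a * n := by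
    rw [hr'] at h5 hst' ⊢
    linarith
  have : e * (rk J : ℝ) * m < a * n * m := mul_lt_mul_of_pos_right h8 hm'
  have : e * (rk J : ℝ) * m = a * n * m := by
    calc e * (rk J : ℝ) * m = e * m * rk J := by ring
      _ = b * n * rk J := by rw [hμ]
      _ = b * rk J * n := by ring
      _ = a * m * n := by rw [h6]
      _ = a * n * m := by ring
  linarith

include h hD in
theorem deg_le_and_eq_iff {E F : X.Modules} {α : ℝ} (hα0 : 0 ≤ α) (hα1 : α < 1) {n : ℕ}
    (hE : FlatMod.IsFinLocFreeOfRank n E) (hF : FlatMod.IsFinLocFreeOfRank n F)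
    (F₁ : Submodule k (ParSh.fibD X I E)) (F₁' : Submodule k (ParSh.fibD X I F))
    (f : E ⟶ F) [Mono f] (hf : ParSh.IsGPHom k X I F₁ F₁' f) :
    ParSh.gpDeg k X α E F₁ n ≤ ParSh.gpDeg k X α F F₁' n ∧
      (ParSh.gpDeg k X α E F₁ n = ParSh.gpDeg k X α F F₁' n ↔
        (IsIso f ∧ (0 < α → Submodule.map (ParSh.fibDMap k X I f) F₁ = F₁'))) := by
  have hEl := isFinLocFree_of_rank hE
  have hFl := isFinLocFree_of_rank hF
  have hr : rk E = rk F := by rw [rk_eq_of_isFinLocFreeOfRank hE, rk_eq_of_isFinLocFreeOfRank hF]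
  have := finite_fibD (I := I) h (isCoh_of_isFinLocFree hFl)
  obtain ⟨h1, h2⟩ := gp_le h hD hα0 hα1.le hEl hFl f hr hf
  rw [gpDeg_eq hE, gpDeg_eq hF]
  refine ⟨h1, fun he => ?_, fun ⟨hi, hm⟩ => ?_⟩
  · have hi := h2 hα1 he
    refine ⟨hi, fun hpos => Submodule.eq_of_le_of_finrank_eq hf ?_⟩
    rw [finrank_map_of_injective _ (bijective_fibDMap f).1]
    rw [dg_congr (asIso f)] at he
    have : α * Module.finrank k F₁ = α * Module.finrank k F₁' := add_left_cancel he
    exact_mod_cast mul_left_cancel₀ hpos.ne' this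
  · rw [dg_congr (k := k) (asIso f)]
    rcases hα0.lt_or_eq with hpos | hz
    · rw [← hm hpos, finrank_map_of_injective _ (bijective_fibDMap f).1]
    · rw [← hz, zero_mul, zero_mul]

include h hD in
theorem eq_zero_or_isIso {E F : X.Modules} {α : ℝ} (hα0 : 0 ≤ α) (hα1 : α < 1) {n m : ℕ}
    (hn : 0 < n) (hm : 0 < m)
    (hE : FlatMod.IsFinLocFreeOfRank n E) (hF : FlatMod.IsFinLocFreeOfRank m F)
    {F₁ : Submodule k (ParSh.fibD X I E)} {F₁' : Submodule k (ParSh.fibD X I F)}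
    (hEss : ParSh.IsGPSemistable k X I α F₁ n) (hEst : ParSh.IsGPStable k X I α F₁ n)
    (hFss : ParSh.IsGPSemistable k X I α F₁' m) (hFst : ParSh.IsGPStable k X I α F₁' m)
    (hμ : ParSh.gpDeg k X α E F₁ n * (m : ℝ) = ParSh.gpDeg k X α F F₁' m * (n : ℝ))
    (f : E ⟶ F) (hf : ParSh.IsGPHom k X I F₁ F₁' f) :
    f = 0 ∨ (IsIso f ∧ (0 < α → Submodule.map (ParSh.fibDMap k X I f) F₁ = F₁')) := by
  by_cases hf0 : f = 0
  · exact Or.inl hf0
  obtain ⟨J, p, j, hj, -, -, hJ, hJ0, hJm, hJn, heq, hmono, hstr⟩ :=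
    image_facts h hD hn hm hα0 hE hF hEss hFss hμ f hf hf0
  have hJn' : rk J = n := hJn.lt_or_eq.resolve_left fun hlt => hstr hEst hlt
  have hJm' : rk J = m := hJm.lt_or_eq.resolve_left fun hlt => by
    have := hFst J (rk J) j hj hJ0 hlt (isFinLocFreeOfRank_rk hJ)
    rw [gpDeg_eq (isFinLocFreeOfRank_rk hJ)] at this
    linarith
  obtain rfl : n = m := hJn'.symm.trans hJm'
  haveI := hmono hJn'
  refine Or.inr ((deg_le_and_eq_iff h hD hα0 hα1 hE hF F₁ F₁' f hf).2.1 ?_)
  exact mul_right_cancel₀ (by exact_mod_cast hn.ne') hμ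

include h hD in
theorem exists_cokernel_lf {E F : X.Modules} {α : ℝ} (hα0 : 0 ≤ α) (hα1 : α < 1) {n m : ℕ}
    (hn : 0 < n) (hm : 0 < m)
    (hE : FlatMod.IsFinLocFreeOfRank n E) (hF : FlatMod.IsFinLocFreeOfRank m F)
    {F₁ : Submodule k (ParSh.fibD X I E)} {F₁' : Submodule k (ParSh.fibD X I F)}
    (hEss : ParSh.IsGPSemistable k X I α F₁ n) (hFss : ParSh.IsGPSemistable k X I α F₁' m)
    (hμ : ParSh.gpDeg k X α E F₁ n * (m : ℝ) = ParSh.gpDeg k X α F F₁' m * (n : ℝ))
    (f : E ⟶ F) (hf : ParSh.IsGPHom k X I F₁ F₁' f) :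
    ∃ r₀ : ℕ, FlatMod.IsFinLocFreeOfRank r₀ (cokernel f) := by
  have hFl := isFinLocFree_of_rank hF
  suffices H : FlatMod.IsFinLocFree (cokernel f) from ⟨_, isFinLocFreeOfRank_rk H⟩
  by_cases hf0 : f = 0
  · subst hf0
    exact ParaF26.isFinLocFree_of_iso cokernelZeroIsoTarget.symm hFl
  obtain ⟨J, p, j, hj, hp, hpj, hJ, hJ0, hJm, hJn, heq, -, -⟩ :=
    image_facts h hD hn hm hα0 hE hF hEss hFss hμ f hf hf0
  obtain ⟨J', j', a, hj', ha, haj, hJ', hC, hr, -⟩ :=
    h.exists_saturation j (isCoh_of_isFinLocFree hJ) hFl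
  have hga : ParSh.IsGPHom k X I (ParSh.gpInduced k X I j F₁') (ParSh.gpInduced k X I j' F₁') a :=
    induced_isGPHom haj F₁'
  obtain ⟨h1, h2⟩ := gp_le h hD hα0 hα1.le hJ hJ' a hr.symm hga
  have h3 := hFss J' (rk J') j' hj' (by omega) (isFinLocFreeOfRank_rk hJ')
  rw [gpDeg_eq (isFinLocFreeOfRank_rk hJ'), hr] at h3
  haveI : IsIso a := h2 hα1 (le_antisymm h1 (le_of_mul_le_mul_right (h3.trans heq.ge)
    (by exact_mod_cast hm)))
  rw [← hpj]
  haveI : Epi (p ≫ a) := inferInstance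
  have e : cokernel (p ≫ j) ≅ cokernel j' :=
    (cokernelEpiComp p j) ≪≫ cokernel.mapIso j j' (asIso a) (Iso.refl F) (by simp [haj])
  exact ParaF26.isFinLocFree_of_iso e.symm hC

end Groth.Agent.H98GP

end
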