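import Groth.Agent.H98GP.Deg
import Groth.Agent.SerreD94.Duality
import Groth.Prelude.Def_KLin

/-! Scalar endomorphisms, and stability for weights near one. -/

set_option autoImplicit false
set_option maxHeartbeats 400000
set_option linter.style.haveILetI false
set_option backward.isDefEq.respectTransparency.types false

noncomputable section

universe u

open CategoryTheory CategoryTheory.Limits AlgebraicGeometry TopologicalSpace Opposite
open Groth.Agent.QC70 Groth.Agent.VB30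

namespace Groth.Agent.H98GP

variable {k : Type u} [Field k] {X : Scheme.{u}} [X.Over (Spec (CommRingCat.of k))] {I : X.IdealSheafData}
  [IsIntegral X]

theorem scal_eq (M : X.Modules) (c : k) : VB30.scal M c = c • 𝟙 M :=
  Scheme.Modules.hom_ext _ _ fun U => by
    ext m
    rw [KLin.smul_app_apply]
    rfl

theorem hmap_scal (M : X.Modules) (c : k) (x : Coh.HH X M 0) :
    Crv77.hmap k (c • 𝟙 M) 0 x = c • x := by
  rw [← scal_eq, Crv77.smul_eq_comp]
  exact congrArg (fun g => Abelian.Ext.comp x (Abelian.Ext.mk₀ g) (add_zero 0)) (VB30.toSheaf_scal M c)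

theorem tensorMap_scal {M N : X.Modules} (c : k) :
    KoszTw.tensorMap (c • 𝟙 M) (𝟙 N) = c • 𝟙 (CohB1.tensorMod M N) :=
  GRec72.hom_ext_tmul fun U m n => by
    rw [KoszTw.tensorMap_tmul, KLin.smul_app_apply, KLin.smul_app_apply]
    exact Amp73.tm_smul_left (L := M) (M := N) _ m n

theorem tensorMap_sub' {M M' N : X.Modules} (φ ψ : M ⟶ M') :
    KoszTw.tensorMap (φ - ψ) (𝟙 N) = KoszTw.tensorMap φ (𝟙 N) - KoszTw.tensorMap ψ (𝟙 N) := by
  haveI : ((DCoh.tensorBi (X := X)).flip.obj N).Additive :=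
    Mod48.additive_tensorBi_flip_obj (O := X.sheaf) N
  rw [← KoszTw.tensorBi_map_app, ← KoszTw.tensorBi_map_app, ← KoszTw.tensorBi_map_app]
  exact Functor.map_sub ((DCoh.tensorBi (X := X)).flip.obj N)

theorem fibDMap_sub_scal {E : X.Modules} (f : E ⟶ E) (c : k) (v : ParSh.fibD X I E) :
    ParSh.fibDMap k X I (f - c • 𝟙 E) v = ParSh.fibDMap k X I f v - c • v := by
  change Crv77.hmap k (KoszTw.tensorMap (f - c • 𝟙 E) (𝟙 _)) 0 v = _
  rw [tensorMap_sub', tensorMap_scal, SerreD94.hmap_sub, hmap_scal]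
  rfl

theorem isGPHom_sub_scal {E : X.Modules} (f : E ⟶ E) (c : k) {F₁ : Submodule k (ParSh.fibD X I E)}
    (hf : ParSh.IsGPHom k X I F₁ F₁ f) : ParSh.IsGPHom k X I F₁ F₁ (f - c • 𝟙 E) := by
  rintro _ ⟨v, hv, rfl⟩
  rw [fibDMap_sub_scal]
  exact F₁.sub_mem (hf ⟨v, hv, rfl⟩) (F₁.smul_mem c hv)

variable (h : VB30.Cur k X) (hD : FGA.IsEffCartier I)

include h hD in
theorem exists_scalar [IsAlgClosed k] {E : X.Modules} {α : ℝ} (hα0 : 0 ≤ α) (hα1 : α < 1) {n : ℕ}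
    (hn : 0 < n) (hE : FlatMod.IsFinLocFreeOfRank n E) {F₁ : Submodule k (ParSh.fibD X I E)}
    (hEss : ParSh.IsGPSemistable k X I α F₁ n) (hEst : ParSh.IsGPStable k X I α F₁ n)
    (f : E ⟶ E) (hf : ParSh.IsGPHom k X I F₁ F₁ f) :
    ∃ c : k, (SheafOfModules.toSheaf X.ringCatSheaf).map f =
      Coh.smulAb E (Coh.toGlobal (X ↘ Spec (CommRingCat.of k)) c) := by
  obtain ⟨c, hc⟩ := h.exists_scal_not_isIso (isFinLocFree_of_rank hE)
    (by rw [rk_eq_of_isFinLocFreeOfRank hE]; exact hn) f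
  rw [scal_eq] at hc
  rcases eq_zero_or_isIso h hD hα0 hα1 hn hn hE hE hEss hEst hEss hEst rfl (f - c • 𝟙 E)
    (isGPHom_sub_scal f c hf) with h0 | ⟨h1, -⟩
  · exact ⟨c, by rw [sub_eq_zero.1 h0, ← scal_eq]; exact VB30.toSheaf_scal E c⟩
  · exact absurd h1 hc

theorem weight_one_le {P g f r n d α : ℝ} (hg : 0 ≤ g) (hgd : g ≤ r * d) (hf : 0 ≤ f) (hr : 0 ≤ r)
    (hrn : r ≤ n - 1) (hd : 0 < d) (hn : 2 ≤ n) (hα1 : α < 1)
    (hα : 1 - 1 / (d * n * (n - 1)) < α)
    (h : P + α * (g * n - f * r) ≤ 0) : P + (g * n - f * r) < 1 := by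
  have hn1 : 0 < n - 1 := by linarith
  have hN : 0 < d * n * (n - 1) := mul_pos (mul_pos hd (by linarith)) hn1
  have h1 : (1 - α) * (d * n * (n - 1)) < 1 := by
    have : 1 - α < 1 / (d * n * (n - 1)) := by linarith
    rwa [lt_div_iff₀ hN] at this
  have h2 : g * n - f * r ≤ d * n * (n - 1) := by
    have a : g ≤ (n - 1) * d := hgd.trans (mul_le_mul_of_nonneg_right hrn hd.le)
    have b : g * n ≤ (n - 1) * d * n := mul_le_mul_of_nonneg_right a (by linarith)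
    nlinarith [mul_nonneg hf hr]
  nlinarith [mul_le_mul_of_nonneg_left h2 (sub_nonneg.2 hα1.le)]

theorem weight_lt {P g f r n d α : ℝ} (hg : 0 ≤ g) (hf : 0 ≤ f) (hfd : f ≤ n * d) (hr : 0 ≤ r)
    (hrn : r ≤ n - 1) (hd : 0 < d) (hn : 2 ≤ n) (hα1 : α < 1)
    (hα : 1 - 1 / (d * n * (n - 1)) < α)
    (h : P + (g * n - f * r) ≤ -1) : P + α * (g * n - f * r) < 0 := by
  have hn1 : 0 < n - 1 := by linarith
  have hN : 0 < d * n * (n - 1) := mul_pos (mul_pos hd (by linarith)) hn1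
  have h1 : (1 - α) * (d * n * (n - 1)) < 1 := by
    have : 1 - α < 1 / (d * n * (n - 1)) := by linarith
    rwa [lt_div_iff₀ hN] at this
  have h2 : f * r ≤ d * n * (n - 1) := by
    have a : f * r ≤ n * d * r := mul_le_mul_of_nonneg_right hfd hr
    have b : n * d * r ≤ n * d * (n - 1) := mul_le_mul_of_nonneg_left hrn (by positivity)
    nlinarith
  nlinarith [mul_le_mul_of_nonneg_left h2 (sub_nonneg.2 hα1.le),
    mul_nonneg (sub_nonneg.2 hα1.le) (mul_nonneg hg (by linarith : (0:ℝ) ≤ n))]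

variable {d : ℕ} (hd : 0 < d)
  (hdegD : ∀ (G : X.Modules) (r : ℕ), FlatMod.IsFinLocFreeOfRank r G →
    Module.finrank k (ParSh.fibD X I G) = r * d)

include h hdegD in
theorem finrank_sub_le {G : X.Modules} {r : ℕ} (hG : FlatMod.IsFinLocFreeOfRank r G)
    (F₁ : Submodule k (ParSh.fibD X I G)) : (Module.finrank k F₁ : ℝ) ≤ (r : ℝ) * d := by
  have := finite_fibD (I := I) h (isCoh_of_isFinLocFree (isFinLocFree_of_rank hG))
  have h1 := (Submodule.finrank_le F₁).trans_eq (hdegD G r hG)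
  exact_mod_cast h1

include h in
theorem rank_le_of_mono {E G : X.Modules} {n r : ℕ} (hE : FlatMod.IsFinLocFreeOfRank n E)
    (hG : FlatMod.IsFinLocFreeOfRank r G) (i : G ⟶ E) (hi : Mono i) : r ≤ n := by
  have := (isCoh_of_isFinLocFree (isFinLocFree_of_rank hE)).2
  have := h.proper
  rw [← rk_eq_of_isFinLocFreeOfRank hE, ← rk_eq_of_isFinLocFreeOfRank hG]
  exact rk_le_of_mono i

include h hD in
theorem le_of_same_rank {E G : X.Modules} {n : ℕ} (hE : FlatMod.IsFinLocFreeOfRank n E)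
    (hG : FlatMod.IsFinLocFreeOfRank n G) {α : ℝ} (hα0 : 0 ≤ α) (hα1 : α ≤ 1)
    (F₁ : Submodule k (ParSh.fibD X I E)) (i : G ⟶ E) (hi : Mono i) :
    ParSh.gpDeg k X α G (ParSh.gpInduced k X I i F₁) n * (n : ℝ) ≤
      ParSh.gpDeg k X α E F₁ n * (n : ℝ) := by
  rw [gpDeg_eq hE, gpDeg_eq hG]
  refine mul_le_mul_of_nonneg_right ?_ (Nat.cast_nonneg n)
  refine (gp_le h hD hα0 hα1 (isFinLocFree_of_rank hG) (isFinLocFree_of_rank hE) i ?_ ?_).1
  · rw [rk_eq_of_isFinLocFreeOfRank hE, rk_eq_of_isFinLocFreeOfRank hG]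
  · exact Submodule.map_comap_le _ _

include h hD hd hdegD in
theorem ss_one_of_ss {E : X.Modules} {n : ℕ} (hn : 2 ≤ n) (hE : FlatMod.IsFinLocFreeOfRank n E)
    {F₁ : Submodule k (ParSh.fibD X I E)} {α : ℝ} (hα1 : α < 1)
    (hα : 1 - 1 / ((d : ℝ) * (n : ℝ) * ((n : ℝ) - 1)) < α)
    (hss : ParSh.IsGPSemistable k X I α F₁ n) : ParSh.IsGPSemistable k X I 1 F₁ n := by
  intro G r i hi hr hG
  rcases (rank_le_of_mono h hE hG i hi).lt_or_eq with hlt | rfl
  · have hs := hss G r i hi hr hG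
    rw [gpDeg_eq hG, gpDeg_eq hE] at hs ⊢
    have hrn : (r : ℝ) ≤ (n : ℝ) - 1 := by
      have : (r : ℝ) + 1 ≤ n := by exact_mod_cast hlt
      linarith
    set g := Module.finrank k (ParSh.gpInduced k X I i F₁) with hg
    set f := Module.finrank k F₁ with hf
    have key := weight_one_le (P := (dg k G : ℝ) * n - dg k E * r) (g := (g : ℝ)) (f := (f : ℝ))
      (r := (r : ℝ)) (n := (n : ℝ)) (d := (d : ℝ)) (α := α) (Nat.cast_nonneg g)
      (finrank_sub_le h hdegD hG _) (Nat.cast_nonneg f) (Nat.cast_nonneg r) hrn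
      (by exact_mod_cast hd) (by exact_mod_cast hn) hα1 hα (by nlinarith)
    have hint : ((dg k G + g) * n - (dg k E + f) * r : ℤ) < 1 := by
      have : (((dg k G + g) * n - (dg k E + f) * r : ℤ) : ℝ) < 1 := by push_cast; nlinarith
      exact_mod_cast this
    have hint' : (((dg k G + g) * n - (dg k E + f) * r : ℤ) : ℝ) ≤ 0 := by
      exact_mod_cast Int.lt_add_one_iff.1 (by linarith)
    push_cast at hint'
    nlinarith
  · exact le_of_same_rank h hD hE hG zero_le_one le_rfl F₁ i hi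

include h hd hdegD in
theorem st_of_st_one {E : X.Modules} {n : ℕ} (hn : 2 ≤ n) (hE : FlatMod.IsFinLocFreeOfRank n E)
    {F₁ : Submodule k (ParSh.fibD X I E)} {α : ℝ} (hα1 : α < 1)
    (hα : 1 - 1 / ((d : ℝ) * (n : ℝ) * ((n : ℝ) - 1)) < α)
    (hst : ParSh.IsGPStable k X I 1 F₁ n) : ParSh.IsGPStable k X I α F₁ n := by
  intro G r i hi hr hlt hG
  have hs := hst G r i hi hr hlt hG
  rw [gpDeg_eq hG, gpDeg_eq hE] at hs ⊢
  have hrn : (r : ℝ) ≤ (n : ℝ) - 1 := by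
    have : (r : ℝ) + 1 ≤ n := by exact_mod_cast hlt
    linarith
  set g := Module.finrank k (ParSh.gpInduced k X I i F₁) with hg
  set f := Module.finrank k F₁ with hf
  have hint : ((dg k G + g) * n - (dg k E + f) * r : ℤ) < 0 := by
    have : (((dg k G + g) * n - (dg k E + f) * r : ℤ) : ℝ) < 0 := by push_cast; nlinarith
    exact_mod_cast this
  have hint' : (((dg k G + g) * n - (dg k E + f) * r : ℤ) : ℝ) ≤ -1 := by
    exact_mod_cast (show ((dg k G + g) * n - (dg k E + f) * r : ℤ) ≤ -1 by omega)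
  push_cast at hint'
  have key := weight_lt (P := (dg k G : ℝ) * n - dg k E * r) (g := (g : ℝ)) (f := (f : ℝ))
    (r := (r : ℝ)) (n := (n : ℝ)) (d := (d : ℝ)) (α := α) (Nat.cast_nonneg g) (Nat.cast_nonneg f)
    (finrank_sub_le h hdegD hE _) (Nat.cast_nonneg r) hrn
    (by exact_mod_cast hd) (by exact_mod_cast hn) hα1 hα (by nlinarith)
  nlinarith

theorem st_one_of_ss_one {E : X.Modules} {n : ℕ} (hE : FlatMod.IsFinLocFreeOfRank n E)
    {F₁ : Submodule k (ParSh.fibD X I E)} (hcop : IsCoprime (n : ℤ) (dg k E)) (a : ℕ)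
    (ha : Module.finrank k F₁ = a * n)
    (hss : ParSh.IsGPSemistable k X I 1 F₁ n) : ParSh.IsGPStable k X I 1 F₁ n := by
  intro G r i hi hr hlt hG
  refine lt_of_le_of_ne (hss G r i hi hr hG) fun he => ?_
  rw [gpDeg_eq hG, gpDeg_eq hE, ha] at he
  set g := Module.finrank k (ParSh.gpInduced k X I i F₁) with hg
  have hi' : (dg k G + g) * (n : ℤ) = (dg k E + a * n) * r := by
    have : (((dg k G + g) * (n : ℤ) : ℤ) : ℝ) = (((dg k E + a * n) * r : ℤ) : ℝ) := by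
      push_cast at he ⊢; linarith
    exact_mod_cast this
  have hdvd : (n : ℤ) ∣ dg k E * r := ⟨dg k G + g - a * r, by linarith⟩
  have h3 := Int.le_of_dvd (by exact_mod_cast hr) (hcop.dvd_of_dvd_mul_left hdvd)
  omega

include h hD in
theorem ss_of_st {E : X.Modules} {n : ℕ} (hE : FlatMod.IsFinLocFreeOfRank n E)
    {F₁ : Submodule k (ParSh.fibD X I E)} {α : ℝ} (hα0 : 0 ≤ α) (hα1 : α ≤ 1)
    (hst : ParSh.IsGPStable k X I α F₁ n) : ParSh.IsGPSemistable k X I α F₁ n := by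
  intro G r i hi hr hG
  rcases (rank_le_of_mono h hE hG i hi).lt_or_eq with hlt | rfl
  · exact (hst G r i hi hr hlt hG).le
  · exact le_of_same_rank h hD hE hG hα0 hα1 F₁ i hi

include h hD hd hdegD in
theorem four_equiv {E : X.Modules} {n : ℕ} (hn : 2 ≤ n) (hE : FlatMod.IsFinLocFreeOfRank n E)
    {F₁ : Submodule k (ParSh.fibD X I E)} {α : ℝ} (hα0 : 0 ≤ α) (hα1 : α < 1)
    (hα : 1 - 1 / ((d : ℝ) * (n : ℝ) * ((n : ℝ) - 1)) < α)
    (hcop : IsCoprime (n : ℤ) (Curv2.deg k X E n)) (a : ℕ) (ha : Module.finrank k F₁ = a * n) :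
    (ParSh.IsGPSemistable k X I α F₁ n ↔ ParSh.IsGPSemistable k X I 1 F₁ n) ∧
      (ParSh.IsGPStable k X I α F₁ n ↔ ParSh.IsGPSemistable k X I 1 F₁ n) ∧
      (ParSh.IsGPStable k X I 1 F₁ n ↔ ParSh.IsGPSemistable k X I 1 F₁ n) := by
  rw [deg_eq_dg hE] at hcop
  have h12 : ParSh.IsGPSemistable k X I α F₁ n → ParSh.IsGPSemistable k X I 1 F₁ n :=
    ss_one_of_ss h hD hd hdegD hn hE hα1 hα
  have h23 : ParSh.IsGPSemistable k X I 1 F₁ n → ParSh.IsGPStable k X I 1 F₁ n :=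
    st_one_of_ss_one hE hcop a ha
  have h34 : ParSh.IsGPStable k X I 1 F₁ n → ParSh.IsGPStable k X I α F₁ n :=
    st_of_st_one h hd hdegD hn hE hα1 hα
  have h41 : ParSh.IsGPStable k X I α F₁ n → ParSh.IsGPSemistable k X I α F₁ n :=
    ss_of_st h hD hE hα0 hα1.le
  exact ⟨⟨h12, fun x => h41 (h34 (h23 x))⟩, ⟨fun x => h12 (h41 x), fun x => h34 (h23 x)⟩,
    ⟨fun x => h12 (h41 (h34 x)), h23⟩⟩

end Groth.Agent.H98GP

end
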